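import Cfsg.Agent.Lib.Helper5.B2O5.QF
import Cfsg.Prelude.Def_Classical
import Cfsg.Prelude.Def_ChevB2
import Cfsg.Prelude.Def_ChevStructure

/-!
# The root elements of `Ω₅(F)` for the form `x₀² + x₁y₁ + x₂y₂` (helper5)

Coordinates `v5 a b c d e` (`a` the anisotropic coordinate, `(b, d)` and `(c, e)` the two hyperbolic
pairs), the basis vectors, and the root elements `X5 r t` (`r < 8`, numbered as the roots of the table
`chevB2`) as Siegel transformations, with their action in coordinates.  Valid over every field.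
-/

set_option autoImplicit false

namespace Cfsg.Agent.Lib.Helper5.B2O5

open Matrix
open Cfsg.Agent.H9.Orth (pol pol_comm Q_add act act_mul act_one act_inv_act act_act_inv act_add
  act_smul act_neg act_sub act_zero act_injective act_eq_zero_iff gl_ext ofLin act_ofLin
  mem_isometryGroup_iff pol_act Q_act pol_act_inv)

/-- the index set of the natural module -/
abbrev I5 := Unit ⊕ (Fin 2 ⊕ Fin 2)

/-- the anisotropic index -/
def io : I5 := Sum.inl ()

def p1 : I5 := Sum.inr (Sum.inl 0)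

def p2 : I5 := Sum.inr (Sum.inl 1)

def q1 : I5 := Sum.inr (Sum.inr 0)

def q2 : I5 := Sum.inr (Sum.inr 1)

section

variable {F : Type*}

/-- a vector in coordinates -/
def v5 (a b c d e : F) : I5 → F := Sum.elim (fun _ => a) (Sum.elim ![b, c] ![d, e])

theorem v5_io (a b c d e : F) : v5 a b c d e io = a := rfl

theorem v5_p1 (a b c d e : F) : v5 a b c d e p1 = b := rfl

theorem v5_p2 (a b c d e : F) : v5 a b c d e p2 = c := rfl

theorem v5_q1 (a b c d e : F) : v5 a b c d e q1 = d := rfl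

theorem v5_q2 (a b c d e : F) : v5 a b c d e q2 = e := rfl

theorem I5_cases (P : I5 → Prop) (h0 : P io) (h1 : P p1) (h2 : P p2) (h3 : P q1) (h4 : P q2) :
    ∀ i, P i := by
  intro i
  rcases i with ⟨⟩ | i | i
  · exact h0
  · fin_cases i
    · exact h1
    · exact h2
  · fin_cases i
    · exact h3
    · exact h4

theorem v5_eta (x : I5 → F) : x = v5 (x io) (x p1) (x p2) (x q1) (x q2) := by
  funext i
  revert i
  apply I5_cases <;> rfl

theorem v5_inj {a b c d e a' b' c' d' e' : F} (h : v5 a b c d e = v5 a' b' c' d' e') :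
    a = a' ∧ b = b' ∧ c = c' ∧ d = d' ∧ e = e' :=
  ⟨congrFun h io, congrFun h p1, congrFun h p2, congrFun h q1, congrFun h q2⟩

end

section

variable {F : Type*} [Field F]

theorem v5_add (a b c d e a' b' c' d' e' : F) :
    v5 a b c d e + v5 a' b' c' d' e' = v5 (a + a') (b + b') (c + c') (d + d') (e + e') := by
  funext i
  revert i
  apply I5_cases <;> rfl

theorem v5_sub (a b c d e a' b' c' d' e' : F) :
    v5 a b c d e - v5 a' b' c' d' e' = v5 (a - a') (b - b') (c - c') (d - d') (e - e') := by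
  funext i
  revert i
  apply I5_cases <;> rfl

theorem v5_smul (k a b c d e : F) :
    k • v5 a b c d e = v5 (k * a) (k * b) (k * c) (k * d) (k * e) := by
  funext i
  revert i
  apply I5_cases <;> rfl

theorem v5_neg (a b c d e : F) : - v5 a b c d e = v5 (-a) (-b) (-c) (-d) (-e) := by
  funext i
  revert i
  apply I5_cases <;> rfl

theorem v5_zero : (0 : I5 → F) = v5 0 0 0 0 0 := by
  funext i
  revert i
  apply I5_cases <;> rfl

end

variable (F : Type*) [Field F]

/-- the quadratic form `x₀² + x₁y₁ + x₂y₂` -/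
abbrev Q5 : (I5 → F) → F := Cfsg.quadFormOdd 2 F

variable {F}

theorem Q5_v5 (a b c d e : F) : Q5 F (v5 a b c d e) = a ^ 2 + b * d + c * e := by
  show Cfsg.quadFormOdd 2 F _ = _
  unfold Cfsg.quadFormOdd
  rw [Fin.sum_univ_two]
  show a ^ 2 + (b * d + c * e) = _
  ring

theorem pol_v5 (a b c d e a' b' c' d' e' : F) :
    pol (Q5 F) (v5 a b c d e) (v5 a' b' c' d' e') =
      2 * a * a' + b * d' + d * b' + c * e' + e * c' := by
  rw [pol, QuadraticMap.polar, v5_add, Q5_v5, Q5_v5, Q5_v5]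
  ring

theorem polar_v5 (a b c d e a' b' c' d' e' : F) :
    QuadraticMap.polar (Q5 F) (v5 a b c d e) (v5 a' b' c' d' e') =
      2 * a * a' + b * d' + d * b' + c * e' + e * c' := pol_v5 a b c d e a' b' c' d' e'

variable (F)

theorem hQ5 : IsQF (Q5 F) := by
  refine ⟨?_, ⟨?_, ?_, ?_, ?_⟩⟩
  · intro k v
    rw [v5_eta v, v5_smul, Q5_v5, Q5_v5]
    ring
  · intro x y v
    rw [v5_eta x, v5_eta y, v5_eta v, v5_add]
    rw [polar_v5, polar_v5, polar_v5]
    ring
  · intro k x v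
    rw [v5_eta x, v5_eta v, v5_smul]
    rw [polar_v5, polar_v5]
    ring
  · intro v x y
    rw [v5_eta x, v5_eta y, v5_eta v, v5_add]
    rw [polar_v5, polar_v5, polar_v5]
    ring
  · intro k v x
    rw [v5_eta x, v5_eta v, v5_smul]
    rw [polar_v5, polar_v5]
    ring

/-- the basis vectors -/
def eb (k : I5) : I5 → F := Pi.single k 1

theorem eb_io : eb F io = v5 1 0 0 0 0 := by
  funext i
  revert i
  apply I5_cases <;> simp [eb, io, p1, p2, q1, q2, v5]

theorem eb_p1 : eb F p1 = v5 0 1 0 0 0 := by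
  funext i
  revert i
  apply I5_cases <;> simp [eb, io, p1, p2, q1, q2, v5]

theorem eb_p2 : eb F p2 = v5 0 0 1 0 0 := by
  funext i
  revert i
  apply I5_cases <;> simp [eb, io, p1, p2, q1, q2, v5]

theorem eb_q1 : eb F q1 = v5 0 0 0 1 0 := by
  funext i
  revert i
  apply I5_cases <;> simp [eb, io, p1, p2, q1, q2, v5]

theorem eb_q2 : eb F q2 = v5 0 0 0 0 1 := by
  funext i
  revert i
  apply I5_cases <;> simp [eb, io, p1, p2, q1, q2, v5]

/-! ### the root elements -/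

/-- for each root: the singular basis vector, the second basis vector, and the sign -/
def rootTab5 : List (I5 × I5 × ℤ) :=
  [(q1, q2, -1), (q1, io, -1), (q2, io, -1), (q1, p2, -1),
   (p1, q2, 1), (p2, io, 1), (p1, io, 1), (p1, p2, 1)]

def rA (r : ℕ) : I5 := (rootTab5.getD r (p1, p2, 0)).1

def rC (r : ℕ) : I5 := (rootTab5.getD r (p1, p2, 0)).2.1

def rS (r : ℕ) : ℤ := (rootTab5.getD r (p1, p2, 0)).2.2

/-- the root elements -/
noncomputable def X5 (r : ℕ) (t : F) : GL I5 F :=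
  if r < 8 then sg (hQ5 F) (eb F (rA r)) ((((rS r : ℤ) : F) * t) • eb F (rC r)) else 1

theorem X5_eq (r : ℕ) (hr : r < 8) (t : F) :
    X5 F r t = sg (hQ5 F) (eb F (rA r)) ((((rS r : ℤ) : F) * t) • eb F (rC r)) := if_pos hr

theorem X5_out (r : ℕ) (hr : ¬ r < 8) (t : F) : X5 F r t = 1 := if_neg hr

theorem X5_mem (r : ℕ) (t : F) : X5 F r t ∈ Cfsg.isometryGroup F (Q5 F) := by
  unfold X5
  split_ifs
  · exact sg_mem (hQ5 F) _ _
  · exact one_mem _

theorem act_X5_0 (t a b c d e : F) :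
    act (X5 F 0 t) (v5 a b c d e) = v5 (a) (b) (c) (d - t * c) (e + t * b) := by
  rw [X5_eq F 0 (by norm_num)]
  show act (sg (hQ5 F) (eb F q1) (((((-1) : ℤ) : F) * t) • eb F q2)) _ = _
  rw [eb_q1, eb_q2, v5_smul, act_sg (hQ5 F) _ _ (by rw [Q5_v5]; ring) (by rw [pol_v5]; ring),
    pol_v5, pol_v5, Q5_v5, v5_smul, v5_smul, v5_add, v5_sub]
  congr 1 <;> (push_cast; ring)

theorem act_X5_1 (t a b c d e : F) :
    act (X5 F 1 t) (v5 a b c d e) = v5 (a + t * b) (b) (c) (d - 2 * t * a - t ^ 2 * b) (e) := by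
  rw [X5_eq F 1 (by norm_num)]
  show act (sg (hQ5 F) (eb F q1) (((((-1) : ℤ) : F) * t) • eb F io)) _ = _
  rw [eb_q1, eb_io, v5_smul, act_sg (hQ5 F) _ _ (by rw [Q5_v5]; ring) (by rw [pol_v5]; ring),
    pol_v5, pol_v5, Q5_v5, v5_smul, v5_smul, v5_add, v5_sub]
  congr 1 <;> (push_cast; ring)

theorem act_X5_2 (t a b c d e : F) :
    act (X5 F 2 t) (v5 a b c d e) = v5 (a + t * c) (b) (c) (d) (e - 2 * t * a - t ^ 2 * c) := by
  rw [X5_eq F 2 (by norm_num)]
  show act (sg (hQ5 F) (eb F q2) (((((-1) : ℤ) : F) * t) • eb F io)) _ = _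
  rw [eb_q2, eb_io, v5_smul, act_sg (hQ5 F) _ _ (by rw [Q5_v5]; ring) (by rw [pol_v5]; ring),
    pol_v5, pol_v5, Q5_v5, v5_smul, v5_smul, v5_add, v5_sub]
  congr 1 <;> (push_cast; ring)

theorem act_X5_3 (t a b c d e : F) :
    act (X5 F 3 t) (v5 a b c d e) = v5 (a) (b) (c + t * b) (d - t * e) (e) := by
  rw [X5_eq F 3 (by norm_num)]
  show act (sg (hQ5 F) (eb F q1) (((((-1) : ℤ) : F) * t) • eb F p2)) _ = _
  rw [eb_q1, eb_p2, v5_smul, act_sg (hQ5 F) _ _ (by rw [Q5_v5]; ring) (by rw [pol_v5]; ring),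
    pol_v5, pol_v5, Q5_v5, v5_smul, v5_smul, v5_add, v5_sub]
  congr 1 <;> (push_cast; ring)

theorem act_X5_4 (t a b c d e : F) :
    act (X5 F 4 t) (v5 a b c d e) = v5 (a) (b + t * c) (c) (d) (e - t * d) := by
  rw [X5_eq F 4 (by norm_num)]
  show act (sg (hQ5 F) (eb F p1) ((((1 : ℤ) : F) * t) • eb F q2)) _ = _
  rw [eb_p1, eb_q2, v5_smul, act_sg (hQ5 F) _ _ (by rw [Q5_v5]; ring) (by rw [pol_v5]; ring),
    pol_v5, pol_v5, Q5_v5, v5_smul, v5_smul, v5_add, v5_sub]
  congr 1 <;> (push_cast; ring)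

theorem act_X5_5 (t a b c d e : F) :
    act (X5 F 5 t) (v5 a b c d e) = v5 (a - t * e) (b) (c + 2 * t * a - t ^ 2 * e) (d) (e) := by
  rw [X5_eq F 5 (by norm_num)]
  show act (sg (hQ5 F) (eb F p2) ((((1 : ℤ) : F) * t) • eb F io)) _ = _
  rw [eb_p2, eb_io, v5_smul, act_sg (hQ5 F) _ _ (by rw [Q5_v5]; ring) (by rw [pol_v5]; ring),
    pol_v5, pol_v5, Q5_v5, v5_smul, v5_smul, v5_add, v5_sub]
  congr 1 <;> (push_cast; ring)

theorem act_X5_6 (t a b c d e : F) :
    act (X5 F 6 t) (v5 a b c d e) = v5 (a - t * d) (b + 2 * t * a - t ^ 2 * d) (c) (d) (e) := by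
  rw [X5_eq F 6 (by norm_num)]
  show act (sg (hQ5 F) (eb F p1) ((((1 : ℤ) : F) * t) • eb F io)) _ = _
  rw [eb_p1, eb_io, v5_smul, act_sg (hQ5 F) _ _ (by rw [Q5_v5]; ring) (by rw [pol_v5]; ring),
    pol_v5, pol_v5, Q5_v5, v5_smul, v5_smul, v5_add, v5_sub]
  congr 1 <;> (push_cast; ring)

theorem act_X5_7 (t a b c d e : F) :
    act (X5 F 7 t) (v5 a b c d e) = v5 (a) (b + t * e) (c - t * d) (d) (e) := by
  rw [X5_eq F 7 (by norm_num)]
  show act (sg (hQ5 F) (eb F p1) ((((1 : ℤ) : F) * t) • eb F p2)) _ = _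
  rw [eb_p1, eb_p2, v5_smul, act_sg (hQ5 F) _ _ (by rw [Q5_v5]; ring) (by rw [pol_v5]; ring),
    pol_v5, pol_v5, Q5_v5, v5_smul, v5_smul, v5_add, v5_sub]
  congr 1 <;> (push_cast; ring)

end Cfsg.Agent.Lib.Helper5.B2O5
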