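import Cfsg.Agent.Lib.Helper5.B2O5.Tor
import Cfsg.Agent.Lib.Helper5.St.Main
import Cfsg.Agent.Lib.Helper5.Chev.SimpleChev

/-!
# `B₂(F) ≅ PΩ₅(F)` over every field with more than two elements (helper5)

The group presented by the relations (R1), (R2) of type `B₂` maps onto `Ω₅(F)` (generated by the root
elements); both `B₂(F)` and `PΩ₅(F)` are its quotient by the centre.
-/

set_option autoImplicit false

namespace Cfsg.Agent.Lib.Helper5.B2O5

open Cfsg.Lie Cfsg.Agent.Lib.Helper5.St Cfsg.Agent.Lib.Helper5.Chev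
open Cfsg.Agent.H9.Orth (act act_mul)

variable (F : Type*) [Field F]

theorem hB2 : chevB2 ∈ [chevG2, chevB2, chevD4, chevF4, chevE6, chevE7, chevE8] := by simp

/-- the root elements in the isometry group -/
noncomputable def XO (r : ℕ) (t : F) : ↥(Cfsg.isometryGroup F (Q5 F)) :=
  ⟨X5 F r t, X5_mem F r t⟩

theorem XO_val (r : ℕ) (t : F) : ((XO F r t : ↥(Cfsg.isometryGroup F (Q5 F))) : GL I5 F) = X5 F r t :=
  rfl

/-- the images of the generators -/
noncomputable def genO : Fin chevB2.nroots × F → ↥(Cfsg.isometryGroup F (Q5 F)) :=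
  fun p => XO F p.1.val p.2

theorem lift_stX5 (r : ℕ) (t : F) :
    FreeGroup.lift (genO F) (chevB2.stX r t) = XO F r t := by
  unfold ChevalleyDatum.stX
  by_cases h : r < chevB2.nroots
  · rw [dif_pos h, FreeGroup.lift_apply_of]
    rfl
  · rw [dif_neg h, map_one]
    apply Subtype.ext
    rw [XO_val, X5_out F r h]
    rfl

theorem lift_stWord5 (w : List (ℕ × F)) :
    FreeGroup.lift (genO F) (chevB2.stWord w) = wordG (XO F) w := by
  unfold ChevalleyDatum.stWord wordG
  rw [map_list_prod, List.map_map]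
  congr 1
  apply List.map_congr_left
  intro p _
  exact lift_stX5 F p.1 p.2

theorem wordG_XO_val (w : List (ℕ × F)) :
    ((wordG (XO F) w : ↥(Cfsg.isometryGroup F (Q5 F))) : GL I5 F) = wordG (X5 F) w := by
  induction w with
  | nil => rfl
  | cons a w ih =>
    rw [wordG_cons, wordG_cons, Subgroup.coe_mul, ih]
    rfl

theorem lift_rels5 : ∀ g ∈ chevB2.steinbergRelsAB F, FreeGroup.lift (genO F) g = 1 := by
  rw [steinbergRelsAB_eq]
  rintro g (⟨r, t₁, t₂, hr, rfl⟩ | ⟨r, s, t, u, hr, hs, h1, h2, rfl⟩)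
  · rw [map_mul, map_mul, map_inv, lift_stX5, lift_stX5, lift_stX5, mul_inv_eq_one]
    apply Subtype.ext
    rw [Subgroup.coe_mul]
    exact X5_mul F r t₁ t₂
  · simp only [map_mul, map_inv, lift_stX5, lift_stWord5]
    rw [mul_inv_eq_one]
    apply Subtype.ext
    rw [wordG_XO_val]
    simp only [Subgroup.coe_mul, Subgroup.coe_inv, XO_val]
    exact X5_comm F r s hr hs h1 h2 t u

/-- the homomorphism from the presented group to the isometry group -/
noncomputable def phi : chevB2.SteinbergCover F →* ↥(Cfsg.isometryGroup F (Q5 F)) :=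
  PresentedGroup.toGroup (lift_rels5 F)

theorem phi_of (p : Fin chevB2.nroots × F) :
    phi F (PresentedGroup.of p) = XO F p.1.val p.2 :=
  PresentedGroup.toGroup.of (lift_rels5 F)

/-- the image is `Ω₅(F)` -/
theorem phi_range (hF : ∃ a : F, a ≠ 0 ∧ a ≠ 1) : (phi F).range = Cfsg.Omega F (Q5 F) := by
  rw [omega_eq F hF]
  apply Subgroup.map_injective (Cfsg.isometryGroup F (Q5 F)).subtype_injective
  rw [Subgroup.subgroupOf_map_subtype, inf_eq_left.2 (E5_le F), MonoidHom.range_eq_map,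
    ← PresentedGroup.closure_range_of (chevB2.steinbergRelsAB F), MonoidHom.map_closure,
    MonoidHom.map_closure]
  unfold E5
  congr 1
  ext g
  constructor
  · rintro ⟨y, ⟨x, ⟨p, rfl⟩, rfl⟩, rfl⟩
    rw [phi_of]
    exact ⟨p.1.val, p.1.2, p.2, rfl⟩
  · rintro ⟨r, hr, t, rfl⟩
    refine ⟨XO F r t, ⟨PresentedGroup.of (⟨r, hr⟩, t), ⟨_, rfl⟩, ?_⟩, rfl⟩
    rw [phi_of]

/-- two root elements which do not commute -/
theorem X5_not_comm : X5 F 4 1 * X5 F 5 1 ≠ X5 F 5 1 * X5 F 4 1 := by
  intro h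
  have h1 := congrArg (fun g : GL I5 F => act g (v5 0 0 0 0 1) p1) h
  simp only [act_mul, act_X5_4, act_X5_5, v5_p1] at h1
  norm_num at h1

end Cfsg.Agent.Lib.Helper5.B2O5
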