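import Cfsg.Agent.Lib.Helper5.B2O5.Main

/-!
# `B₂(F) ≅ PΩ₅(F)` over every field with more than two elements: the isomorphism (helper5)
-/

set_option autoImplicit false

namespace Cfsg.Agent.Lib.Helper5.B2O5

open Cfsg.Lie Cfsg.Agent.Lib.Helper5.St Cfsg.Agent.Lib.Helper5.Chev

variable (F : Type*) [Field F] (hF : ∃ a : F, a ≠ 0 ∧ a ≠ 1)

include hF

/-- the homomorphism onto `Ω₅(F)` -/
noncomputable def phiO : chevB2.SteinbergCover F →* ↥(Cfsg.Omega F (Q5 F)) :=
  (phi F).codRestrict (Cfsg.Omega F (Q5 F)) (fun x => by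
    rw [← phi_range F hF]
    exact ⟨x, rfl⟩)

theorem phiO_val (x : chevB2.SteinbergCover F) :
    ((phiO F hF x : ↥(Cfsg.Omega F (Q5 F))) : ↥(Cfsg.isometryGroup F (Q5 F))) = phi F x := rfl

theorem phiO_surjective : Function.Surjective (phiO F hF) := by
  rintro ⟨y, hy⟩
  rw [← phi_range F hF] at hy
  obtain ⟨x, rfl⟩ := hy
  exact ⟨x, rfl⟩

theorem omega_not_comm : ∃ a b : ↥(Cfsg.Omega F (Q5 F)), a * b ≠ b * a := by
  refine ⟨phiO F hF (PresentedGroup.of (⟨4, by decide⟩, 1)),
    phiO F hF (PresentedGroup.of (⟨5, by decide⟩, 1)), ?_⟩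
  intro h
  apply X5_not_comm F
  have h1 := congrArg (fun g : ↥(Cfsg.Omega F (Q5 F)) =>
    (((g : ↥(Cfsg.isometryGroup F (Q5 F))) : GL I5 F))) h
  simp only [Subgroup.coe_mul, phiO_val, phi_of] at h1
  exact h1

/-- the homomorphism onto `PΩ₅(F)` -/
noncomputable def psi : chevB2.SteinbergCover F →* Cfsg.POmega F (Q5 F) :=
  (QuotientGroup.mk' (Subgroup.center ↥(Cfsg.Omega F (Q5 F)))).comp (phiO F hF)

theorem psi_surjective : Function.Surjective (psi F hF) :=
  (QuotientGroup.mk'_surjective _).comp (phiO_surjective F hF)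

theorem mem_ker_psi (x : chevB2.SteinbergCover F) :
    x ∈ (psi F hF).ker ↔ phiO F hF x ∈ Subgroup.center ↥(Cfsg.Omega F (Q5 F)) := by
  rw [MonoidHom.mem_ker]
  unfold psi
  rw [MonoidHom.comp_apply, QuotientGroup.mk'_apply, QuotientGroup.eq_one_iff]

theorem phiO_center (z : chevB2.SteinbergCover F)
    (hz : z ∈ Subgroup.center (chevB2.SteinbergCover F)) :
    phiO F hF z ∈ Subgroup.center ↥(Cfsg.Omega F (Q5 F)) := by
  rw [Subgroup.mem_center_iff]
  intro y
  obtain ⟨x, rfl⟩ := phiO_surjective F hF y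
  rw [← map_mul, ← map_mul, Subgroup.mem_center_iff.1 hz x]

theorem ker_psi : (psi F hF).ker = Subgroup.center (chevB2.SteinbergCover F) := by
  obtain ⟨R, hR⟩ : ∃ R : RData F chevB2 (chevB2.SteinbergCover F), R = coverRData (K := F) hB2 :=
    ⟨_, rfl⟩
  have hθs := R.thetaG_surjective
  have hθk := R.thetaG_ker_eq_center
  obtain ⟨hsimple, -⟩ := simple_all (F := F) chevB2 hB2 (fun _ => hF)
  apply le_antisymm
  · have hN : ((psi F hF).ker).Normal := inferInstance
    have hM : ((psi F hF).ker.map R.thetaG).Normal := Subgroup.Normal.map hN _ hθs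
    rcases hM.eq_bot_or_eq_top with h | h
    · rw [← hθk]
      exact (Subgroup.map_eq_bot_iff _).1 h
    · exfalso
      obtain ⟨a, b, hab⟩ := omega_not_comm F hF
      have hall : ∀ x, phiO F hF x ∈ Subgroup.center ↥(Cfsg.Omega F (Q5 F)) := by
        intro x
        have hx : R.thetaG x ∈ (psi F hF).ker.map R.thetaG := by
          rw [h]
          trivial
        obtain ⟨n, hn, hnx⟩ := hx
        have hz : n⁻¹ * x ∈ Subgroup.center (chevB2.SteinbergCover F) := by
          rw [← hθk, MonoidHom.mem_ker, map_mul, map_inv, hnx, inv_mul_cancel]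
        have e : x = n * (n⁻¹ * x) := by group
        rw [e, map_mul]
        exact Subgroup.mul_mem _ ((mem_ker_psi F hF n).1 hn) (phiO_center F hF _ hz)
      obtain ⟨x, rfl⟩ := phiO_surjective F hF a
      exact hab ((Subgroup.mem_center_iff.1 (hall x) b).symm)
  · intro z hz
    rw [mem_ker_psi]
    exact phiO_center F hF z hz

/-- **`B₂(F) ≅ PΩ₅(F)`** for every field `F` with more than two elements -/
theorem main : Nonempty (↥(chevB2.group F) ≃* Cfsg.POmega F (Cfsg.quadFormOdd 2 F)) := by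
  obtain ⟨R, hR⟩ : ∃ R : RData F chevB2 (chevB2.SteinbergCover F), R = coverRData (K := F) hB2 :=
    ⟨_, rfl⟩
  have e1 := QuotientGroup.quotientKerEquivOfSurjective R.thetaG R.thetaG_surjective
  have e2 := QuotientGroup.quotientKerEquivOfSurjective (psi F hF) (psi_surjective F hF)
  have hk : R.thetaG.ker = (psi F hF).ker := by rw [R.thetaG_ker_eq_center, ker_psi]
  exact ⟨e1.symm.trans ((QuotientGroup.quotientMulEquivOfEq hk).trans e2)⟩

end Cfsg.Agent.Lib.Helper5.B2O5
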