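import Cfsg.Agent.H9.OrthA

/-!
# Siegel transformations for quadratic forms with a possibly degenerate polar form (helper5)

A copy of the part of helper9's `H9/OrthA`, `H9/OrthC` which does not use that the polar form is
non-degenerate: the hypothesis is weakened to `IsQF` (homogeneity and bilinearity of the polar form).
Needed for the form `x₀² + x₁y₁ + x₂y₂` in characteristic two.
-/

set_option autoImplicit false
set_option linter.unusedSectionVars false

namespace Cfsg.Agent.Lib.Helper5.B2O5

open Matrix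
open Cfsg.Agent.H9.Orth (pol pol_comm Q_add act act_mul act_one act_inv_act act_act_inv act_add
  act_smul act_neg act_sub act_zero act_injective act_eq_zero_iff gl_ext ofLin act_ofLin
  mem_isometryGroup_iff pol_act Q_act pol_act_inv)

/-- a quadratic form: homogeneous of degree two with a bilinear polar form -/
structure IsQF {ι : Type} [Fintype ι] [DecidableEq ι] {F : Type*} [Field F]
    (Q : (ι → F) → F) : Prop where
  smul : ∀ (c : F) (v : ι → F), Q (c • v) = c ^ 2 * Q v
  polar_bilinear : Cfsg.Geo.IsBilinearForm (QuadraticMap.polar Q)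

section Basics

variable {ι : Type} [Fintype ι] [DecidableEq ι] {F : Type*} [Field F] {Q : (ι → F) → F}
variable (hQ : IsQF Q)

include hQ

lemma pol_add_left (x y v : ι → F) : pol Q (x + y) v = pol Q x v + pol Q y v :=
  hQ.polar_bilinear.add_left x y v

lemma pol_add_right (v x y : ι → F) : pol Q v (x + y) = pol Q v x + pol Q v y :=
  hQ.polar_bilinear.add_right v x y

lemma pol_smul_left (c : F) (x v : ι → F) : pol Q (c • x) v = c * pol Q x v :=
  hQ.polar_bilinear.smul_left c x v

lemma pol_smul_right (c : F) (v x : ι → F) : pol Q v (c • x) = c * pol Q v x :=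
  hQ.polar_bilinear.smul_right c v x

lemma pol_zero_left (v : ι → F) : pol Q 0 v = 0 := by
  have := pol_smul_left hQ 0 0 v
  rwa [zero_smul, zero_mul] at this

lemma pol_zero_right (v : ι → F) : pol Q v 0 = 0 := by
  rw [pol_comm, pol_zero_left hQ]

lemma pol_neg_left (x v : ι → F) : pol Q (-x) v = - pol Q x v := by
  have := pol_smul_left hQ (-1) x v
  rwa [neg_one_smul, neg_one_mul] at this

lemma pol_neg_right (v x : ι → F) : pol Q v (-x) = - pol Q v x := by
  rw [pol_comm, pol_neg_left hQ, pol_comm]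

lemma pol_sub_left (x y v : ι → F) : pol Q (x - y) v = pol Q x v - pol Q y v := by
  rw [sub_eq_add_neg, pol_add_left hQ, pol_neg_left hQ, sub_eq_add_neg]

lemma pol_sub_right (v x y : ι → F) : pol Q v (x - y) = pol Q v x - pol Q v y := by
  rw [sub_eq_add_neg, pol_add_right hQ, pol_neg_right hQ, sub_eq_add_neg]

lemma Q_smul (c : F) (x : ι → F) : Q (c • x) = c ^ 2 * Q x := hQ.smul c x

lemma Q_zero : Q 0 = 0 := by
  have := hQ.smul 0 0
  rw [zero_smul] at this
  rw [this]; ring

lemma Q_neg (x : ι → F) : Q (-x) = Q x := by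
  have := hQ.smul (-1) x
  rw [neg_one_smul] at this
  rw [this]; ring

lemma pol_self (x : ι → F) : pol Q x x = 2 * Q x := by
  have h1 : x + x = (2 : F) • x := by rw [two_smul]
  have h2 := Q_add Q x x
  rw [h1, hQ.smul] at h2
  linear_combination (-1 : F) * h2

lemma Q_add_smul (x w : ι → F) (c : F) :
    Q (x + c • w) = Q x + c ^ 2 * Q w + c * pol Q x w := by
  rw [Q_add Q, hQ.smul, pol_smul_right hQ]

lemma Q_sub (x y : ι → F) : Q (x - y) = Q x + Q y - pol Q x y := by
  rw [sub_eq_add_neg, Q_add Q, Q_neg hQ, pol_neg_right hQ]; ring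

lemma ne_zero_of_Q_ne (x : ι → F) (hx : Q x ≠ 0) : x ≠ 0 := by
  rintro rfl
  exact hx (Q_zero hQ)

end Basics

section Siegel

variable {ι : Type} [Fintype ι] [DecidableEq ι] {F : Type*} [Field F] {Q : (ι → F) → F}
variable (hQ : IsQF Q)

include hQ

def sgL (u w : ι → F) : (ι → F) →ₗ[F] (ι → F) where
  toFun x := x + (pol Q x w - Q w * pol Q x u) • u - pol Q x u • w
  map_add' x y := by
    simp only [pol_add_left hQ]
    module
  map_smul' c x := by
    simp only [pol_smul_left hQ, RingHom.id_apply]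
    module

lemma sgL_apply (u w x : ι → F) :
    sgL hQ u w x = x + (pol Q x w - Q w * pol Q x u) • u - pol Q x u • w := rfl

lemma sgL_sgL (u w w' : ι → F) (hu : Q u = 0) (huw : pol Q u w = 0) (huw' : pol Q u w' = 0)
    (x : ι → F) : sgL hQ u w (sgL hQ u w' x) = sgL hQ u (w + w') x := by
  simp only [sgL_apply, pol_add_left hQ, pol_sub_left hQ, pol_smul_left hQ, pol_add_right hQ,
    Q_add Q w w']
  rw [pol_self hQ, hu, huw, pol_comm w' u, huw', pol_comm w' w]
  module

lemma sgL_zero (u x : ι → F) : sgL hQ u 0 x = x := by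
  rw [sgL_apply, pol_zero_right hQ, Q_zero hQ]
  module

/-- the Siegel map as a linear equivalence -/
def sgE (u w : ι → F) (hu : Q u = 0) (huw : pol Q u w = 0) : (ι → F) ≃ₗ[F] (ι → F) :=
  LinearEquiv.ofLinearMap (sgL hQ u w) (sgL hQ u (-w))
    (by
      apply LinearMap.ext
      intro x
      rw [LinearMap.comp_apply, sgL_sgL hQ u w (-w) hu huw (by rw [pol_neg_right hQ, huw, neg_zero]),
        add_neg_cancel, sgL_zero]
      rfl)
    (by
      apply LinearMap.ext
      intro x
      rw [LinearMap.comp_apply, sgL_sgL hQ u (-w) w hu (by rw [pol_neg_right hQ, huw, neg_zero]) huw,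
        neg_add_cancel, sgL_zero]
      rfl)

open Classical in
/-- the Siegel transformation as an element of `GL` (trivial unless `Q u = 0` and `u ⊥ w`) -/
noncomputable def sg (u w : ι → F) : GL ι F :=
  if h : Q u = 0 ∧ pol Q u w = 0 then ofLin (sgE hQ u w h.1 h.2) else 1

lemma act_sg (u w : ι → F) (hu : Q u = 0) (huw : pol Q u w = 0) (x : ι → F) :
    act (sg hQ u w) x = x + (pol Q x w - Q w * pol Q x u) • u - pol Q x u • w := by
  rw [sg, dif_pos ⟨hu, huw⟩, act_ofLin]
  rfl

lemma sg_of_not (u w : ι → F) (h : ¬ (Q u = 0 ∧ pol Q u w = 0)) : sg hQ u w = 1 := by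
  rw [sg, dif_neg h]

lemma Q_act_sg (u w x : ι → F) : Q (act (sg hQ u w) x) = Q x := by
  by_cases h : Q u = 0 ∧ pol Q u w = 0
  · obtain ⟨hu, huw⟩ := h
    rw [act_sg hQ u w hu huw, sub_eq_add_neg, ← neg_smul, add_assoc, Q_add Q, Q_add Q, hQ.smul,
      hQ.smul, hu]
    simp only [pol_add_right hQ, pol_smul_left hQ, pol_smul_right hQ]
    rw [huw]
    ring
  · rw [sg_of_not hQ u w h, act_one]

lemma sg_mem (u w : ι → F) : sg hQ u w ∈ Cfsg.isometryGroup F Q := by
  rw [mem_isometryGroup_iff]
  exact Q_act_sg hQ u w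

lemma sg_mul (u w w' : ι → F) (huw : pol Q u w = 0) (huw' : pol Q u w' = 0) :
    sg hQ u w * sg hQ u w' = sg hQ u (w + w') := by
  by_cases hu : Q u = 0
  · apply gl_ext
    intro x
    have h3 : pol Q u (w + w') = 0 := by rw [pol_add_right hQ, huw, huw', add_zero]
    rw [act_mul, act_sg hQ u w hu huw, act_sg hQ u w' hu huw', act_sg hQ u (w + w') hu h3]
    have := sgL_sgL hQ u w w' hu huw huw' x
    simp only [sgL_apply] at this
    exact this
  · rw [sg_of_not hQ u w (fun h => hu h.1), sg_of_not hQ u w' (fun h => hu h.1),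
      sg_of_not hQ u (w + w') (fun h => hu h.1), one_mul]

lemma sg_zero (u : ι → F) : sg hQ u 0 = 1 := by
  by_cases hu : Q u = 0
  · apply gl_ext
    intro x
    rw [act_sg hQ u 0 hu (pol_zero_right hQ u), act_one]
    exact sgL_zero hQ u x
  · exact sg_of_not hQ u 0 (fun h => hu h.1)

lemma sg_inv (u w : ι → F) (huw : pol Q u w = 0) : (sg hQ u w)⁻¹ = sg hQ u (-w) := by
  rw [inv_eq_iff_mul_eq_one, sg_mul hQ u w (-w) huw (by rw [pol_neg_right hQ, huw, neg_zero]),
    add_neg_cancel, sg_zero]

lemma sg_self (u : ι → F) (c : F) : sg hQ u (c • u) = 1 := by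
  by_cases hu : Q u = 0
  · have h1 : pol Q u (c • u) = 0 := by rw [pol_smul_right hQ, pol_self hQ, hu]; ring
    apply gl_ext
    intro x
    rw [act_sg hQ u (c • u) hu h1, act_one, hQ.smul, hu, pol_smul_right hQ]
    module
  · exact sg_of_not hQ u _ (fun h => hu h.1)

/-- conjugation of a Siegel transformation by an isometry -/
lemma conj_sg (g : GL ι F) (hg : g ∈ Cfsg.isometryGroup F Q) (u w : ι → F) :
    g * sg hQ u w * g⁻¹ = sg hQ (act g u) (act g w) := by
  by_cases h : Q u = 0 ∧ pol Q u w = 0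
  · obtain ⟨hu, huw⟩ := h
    have hu' : Q (act g u) = 0 := by rw [Q_act g hg, hu]
    have huw' : pol Q (act g u) (act g w) = 0 := by rw [pol_act g hg, huw]
    apply gl_ext
    intro x
    rw [act_mul, act_mul, act_sg hQ u w hu huw, act_sg hQ _ _ hu' huw', act_sub, act_add,
      act_smul, act_smul, act_act_inv, pol_act_inv g hg, pol_act_inv g hg, Q_act g hg]
  · have h' : ¬ (Q (act g u) = 0 ∧ pol Q (act g u) (act g w) = 0) := by
      rw [Q_act g hg, pol_act g hg]; exact h
    rw [sg_of_not hQ u w h, sg_of_not hQ _ _ h', mul_one, mul_inv_cancel]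

lemma sg_smul_left (c : F) (u w : ι → F) : sg hQ (c • u) w = sg hQ u (c • w) := by
  by_cases hc : c = 0
  · subst hc
    rw [zero_smul, zero_smul, sg_zero]
    apply gl_ext
    intro x
    rw [act_sg hQ 0 w (Q_zero hQ) (pol_zero_left hQ w), act_one, pol_zero_right hQ]
    module
  by_cases h : Q u = 0 ∧ pol Q u w = 0
  · obtain ⟨hu, huw⟩ := h
    have hu' : Q (c • u) = 0 := by rw [hQ.smul, hu, mul_zero]
    have h1 : pol Q (c • u) w = 0 := by rw [pol_smul_left hQ, huw, mul_zero]
    have h2 : pol Q u (c • w) = 0 := by rw [pol_smul_right hQ, huw, mul_zero]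
    apply gl_ext
    intro x
    rw [act_sg hQ _ _ hu' h1, act_sg hQ _ _ hu h2, hQ.smul, pol_smul_right hQ, pol_smul_right hQ]
    module
  · have h' : ¬ (Q (c • u) = 0 ∧ pol Q (c • u) w = 0) := by
      rw [hQ.smul, pol_smul_left hQ]
      intro h''
      apply h
      constructor
      · rcases mul_eq_zero.1 h''.1 with h3 | h3
        · exact absurd ((pow_eq_zero_iff two_ne_zero).1 h3) hc
        · exact h3
      · rcases mul_eq_zero.1 h''.2 with h3 | h3
        · exact absurd h3 hc
        · exact h3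
    have h'' : ¬ (Q u = 0 ∧ pol Q u (c • w) = 0) := by
      rw [pol_smul_right hQ]
      intro h3
      apply h
      refine ⟨h3.1, ?_⟩
      rcases mul_eq_zero.1 h3.2 with h4 | h4
      · exact absurd h4 hc
      · exact h4
    rw [sg_of_not hQ _ _ h', sg_of_not hQ _ _ h'']

end Siegel

end Cfsg.Agent.Lib.Helper5.B2O5
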