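import Cfsg.Agent.Lib.Helper5.B2O5.Trans

/-!
# Every isometry of `x₀² + x₁y₁ + x₂y₂` is diagonal modulo the root elements (helper5)
-/

set_option autoImplicit false

namespace Cfsg.Agent.Lib.Helper5.B2O5

open Matrix
open Cfsg.Agent.H9.Orth (pol pol_comm Q_add act act_mul act_one act_inv_act act_act_inv act_add
  act_smul act_neg act_sub act_zero act_injective act_eq_zero_iff gl_ext ofLin act_ofLin
  mem_isometryGroup_iff pol_act Q_act pol_act_inv)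

variable (F : Type*) [Field F]

/-- the diagonal matrices -/
def IsDiag5 (g : GL I5 F) : Prop := ∃ l : I5 → F, ∀ k, act g (eb F k) = l k • eb F k

theorem v5_decomp (a b c d e : F) :
    v5 a b c d e = a • eb F io + b • eb F p1 + c • eb F p2 + d • eb F q1 + e • eb F q2 := by
  rw [eb_io, eb_p1, eb_p2, eb_q1, eb_q2]
  simp only [v5_smul, v5_add]
  congr 1 <;> ring

theorem gl_ext_basis (g h : GL I5 F) (H : ∀ k, act g (eb F k) = act h (eb F k)) : g = h := by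
  apply gl_ext
  intro x
  rw [v5_eta x, v5_decomp]
  simp only [act_add, act_smul, H]

theorem eb_ne_zero (k : I5) : eb F k ≠ 0 := by
  intro h
  have := congrFun h k
  rw [eb, Pi.single_eq_same, Pi.zero_apply] at this
  exact one_ne_zero this

theorem pol_eb_io (a b c d e : F) : pol (Q5 F) (v5 a b c d e) (eb F io) = 2 * a := by
  rw [eb_io, pol_v5]
  ring

theorem pol_eb_p1 (a b c d e : F) : pol (Q5 F) (v5 a b c d e) (eb F p1) = d := by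
  rw [eb_p1, pol_v5]
  ring

theorem pol_eb_p2 (a b c d e : F) : pol (Q5 F) (v5 a b c d e) (eb F p2) = e := by
  rw [eb_p2, pol_v5]
  ring

theorem pol_eb_q1 (a b c d e : F) : pol (Q5 F) (v5 a b c d e) (eb F q1) = b := by
  rw [eb_q1, pol_v5]
  ring

theorem pol_eb_q2 (a b c d e : F) : pol (Q5 F) (v5 a b c d e) (eb F q2) = c := by
  rw [eb_q2, pol_v5]
  ring

theorem Q_eb_io : Q5 F (eb F io) = 1 := by
  rw [eb_io, Q5_v5]
  ring

theorem Q_eb_p1 : Q5 F (eb F p1) = 0 := by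
  rw [eb_p1, Q5_v5]
  ring

theorem Q_eb_p2 : Q5 F (eb F p2) = 0 := by
  rw [eb_p2, Q5_v5]
  ring

theorem Q_eb_q1 : Q5 F (eb F q1) = 0 := by
  rw [eb_q1, Q5_v5]
  ring

theorem Q_eb_q2 : Q5 F (eb F q2) = 0 := by
  rw [eb_q2, Q5_v5]
  ring

/-- an isometry fixing the first pair preserves the coordinates of the first pair -/
theorem coords_fix1 (g : GL I5 F) (hg : g ∈ Cfsg.isometryGroup F (Q5 F)) (hf : Fix1 F g)
    (x : I5 → F) (a b c d e : F) (hx : act g x = v5 a b c d e) : b = x p1 ∧ d = x q1 := by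
  constructor
  · have h1 : pol (Q5 F) (act g x) (act g (eb F q1)) = pol (Q5 F) x (eb F q1) := pol_act g hg _ _
    rw [hf.2, hx, pol_eb_q1] at h1
    rw [h1]
    conv_lhs => rw [v5_eta x]
    rw [pol_eb_q1]
  · have h1 : pol (Q5 F) (act g x) (act g (eb F p1)) = pol (Q5 F) x (eb F p1) := pol_act g hg _ _
    rw [hf.1, hx, pol_eb_p1] at h1
    rw [h1]
    conv_lhs => rw [v5_eta x]
    rw [pol_eb_p1]

/-- **reduction**: every isometry is diagonal modulo the root elements -/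
theorem reduce5 (g : GL I5 F) (hg : g ∈ Cfsg.isometryGroup F (Q5 F)) :
    ∃ h ∈ E5 F, IsDiag5 F (h * g) := by
  have hO := E5_le F
  -- step 1: the first basis vector
  obtain ⟨h₁, hh₁, e₁⟩ := trans_p1 F (act g (eb F p1)) (by rw [Q_act g hg, Q_eb_p1]) (by
    rw [Ne, act_eq_zero_iff]
    exact eb_ne_zero F p1)
  obtain ⟨g₁, hg₁def⟩ : ∃ g₁, g₁ = h₁ * g := ⟨_, rfl⟩
  have hg₁ : g₁ ∈ Cfsg.isometryGroup F (Q5 F) := by
    rw [hg₁def]
    exact mul_mem (hO hh₁) hg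
  have f₁ : act g₁ (eb F p1) = eb F p1 := by rw [hg₁def, act_mul, e₁]
  -- step 2: its partner
  obtain ⟨a, b, c, d, e, hw⟩ : ∃ a b c d e, act g₁ (eb F q1) = v5 a b c d e :=
    ⟨_, _, _, _, _, v5_eta _⟩
  have hd : d = 1 := by
    have := pol_act g₁ hg₁ (eb F q1) (eb F p1)
    rw [f₁, hw, pol_eb_p1, eb_q1, pol_eb_p1] at this
    exact this
  subst hd
  have hQw : Q5 F (v5 a b c 1 e) = 0 := by rw [← hw, Q_act _ hg₁, Q_eb_q1]
  obtain ⟨h₂, hh₂, f₂, e₂⟩ := fix_q1 F a b c e hQw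
  obtain ⟨g₂, hg₂def⟩ : ∃ g₂, g₂ = h₂ * g₁ := ⟨_, rfl⟩
  have hg₂ : g₂ ∈ Cfsg.isometryGroup F (Q5 F) := by
    rw [hg₂def]
    exact mul_mem (hO hh₂) hg₁
  have hfix₂ : Fix1 F g₂ := by
    rw [hg₂def]
    exact ⟨by rw [act_mul, f₁, f₂], by rw [act_mul, hw, e₂]⟩
  -- step 3: the third basis vector
  obtain ⟨a', b', c', d', e', hv⟩ : ∃ a b c d e, act g₂ (eb F p2) = v5 a b c d e :=
    ⟨_, _, _, _, _, v5_eta _⟩
  obtain ⟨hb', hd'⟩ := coords_fix1 F g₂ hg₂ hfix₂ _ _ _ _ _ _ hv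
  rw [eb_p2, v5_p1] at hb'
  rw [eb_p2, v5_q1] at hd'
  subst hb' hd'
  obtain ⟨h₃, hh₃, hf₃, β, hβ, e₃⟩ := fix_p2 F a' c' e'
    (by rw [← hv, Q_act _ hg₂, Q_eb_p2]) (by
      rw [← hv, Ne, act_eq_zero_iff]
      exact eb_ne_zero F p2)
  obtain ⟨g₃, hg₃def⟩ : ∃ g₃, g₃ = h₃ * g₂ := ⟨_, rfl⟩
  have hg₃ : g₃ ∈ Cfsg.isometryGroup F (Q5 F) := by
    rw [hg₃def]
    exact mul_mem (hO hh₃) hg₂
  have hfix₃ : Fix1 F g₃ := by
    rw [hg₃def]
    exact Fix1_mul F _ _ hf₃ hfix₂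
  have ep2 : act g₃ (eb F p2) = v5 0 0 β 0 0 := by rw [hg₃def, act_mul, hv, e₃]
  -- step 4: its partner
  obtain ⟨a'', b'', c'', d'', e'', hw2⟩ : ∃ a b c d e, act g₃ (eb F q2) = v5 a b c d e :=
    ⟨_, _, _, _, _, v5_eta _⟩
  obtain ⟨hb'', hd''⟩ := coords_fix1 F g₃ hg₃ hfix₃ _ _ _ _ _ _ hw2
  rw [eb_q2, v5_p1] at hb''
  rw [eb_q2, v5_q1] at hd''
  subst hb'' hd''
  have hβe : β * e'' = 1 := by
    have := pol_act g₃ hg₃ (eb F p2) (eb F q2)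
    rw [ep2, hw2, pol_v5, eb_p2, pol_eb_q2] at this
    linear_combination this
  obtain ⟨h₄, hh₄, hf₄, hp2₄, e₄⟩ := fix_q2 F β a'' c'' e'' hβe
    (by rw [← hw2, Q_act _ hg₃, Q_eb_q2])
  obtain ⟨g₄, hg₄def⟩ : ∃ g₄, g₄ = h₄ * g₃ := ⟨_, rfl⟩
  have hg₄ : g₄ ∈ Cfsg.isometryGroup F (Q5 F) := by
    rw [hg₄def]
    exact mul_mem (hO hh₄) hg₃
  have hfix₄ : Fix1 F g₄ := by
    rw [hg₄def]
    exact Fix1_mul F _ _ hf₄ hfix₃
  have ep2' : act g₄ (eb F p2) = v5 0 0 β 0 0 := by rw [hg₄def, act_mul, ep2, hp2₄]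
  have eq2' : act g₄ (eb F q2) = v5 0 0 0 0 e'' := by rw [hg₄def, act_mul, hw2, e₄]
  -- step 5: the anisotropic vector
  obtain ⟨a₅, b₅, c₅, d₅, e₅, hu⟩ : ∃ a b c d e, act g₄ (eb F io) = v5 a b c d e :=
    ⟨_, _, _, _, _, v5_eta _⟩
  obtain ⟨hb₅, hd₅⟩ := coords_fix1 F g₄ hg₄ hfix₄ _ _ _ _ _ _ hu
  rw [eb_io, v5_p1] at hb₅
  rw [eb_io, v5_q1] at hd₅
  subst hb₅ hd₅
  have he'' : e'' ≠ 0 := by
    intro h
    rw [h, mul_zero] at hβe
    exact zero_ne_one hβe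
  have he₅ : e₅ = 0 := by
    have := pol_act g₄ hg₄ (eb F io) (eb F p2)
    rw [hu, ep2', pol_v5, eb_io, pol_eb_p2] at this
    have h2 : e₅ * β = 0 := by linear_combination this
    rcases mul_eq_zero.1 h2 with h3 | h3
    · exact h3
    · exact absurd h3 hβ
  have hc₅ : c₅ = 0 := by
    have := pol_act g₄ hg₄ (eb F io) (eb F q2)
    rw [hu, eq2', pol_v5, eb_io, pol_eb_q2] at this
    have h2 : c₅ * e'' = 0 := by linear_combination this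
    rcases mul_eq_zero.1 h2 with h3 | h3
    · exact h3
    · exact absurd h3 he''
  subst he₅ hc₅
  refine ⟨h₄ * (h₃ * (h₂ * h₁)), (E5 F).mul_mem hh₄ ((E5 F).mul_mem hh₃ ((E5 F).mul_mem hh₂ hh₁)),
    v5 a₅ 1 β 1 e'', ?_⟩
  have hprod : h₄ * (h₃ * (h₂ * h₁)) * g = g₄ := by
    rw [hg₄def, hg₃def, hg₂def, hg₁def]
    simp only [mul_assoc]
  rw [hprod]
  apply I5_cases
  · rw [hu, v5_io, eb_io, v5_smul]
    congr 1 <;> ring
  · rw [hfix₄.1, v5_p1, one_smul]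
  · rw [ep2', v5_p2, eb_p2, v5_smul]
    congr 1 <;> ring
  · rw [hfix₄.2, v5_q1, one_smul]
  · rw [eq2', v5_q2, eb_q2, v5_smul]
    congr 1 <;> ring

end Cfsg.Agent.Lib.Helper5.B2O5
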