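import Cfsg.Agent.Lib.Helper5.B2O5.Geo
import Cfsg.Agent.Lib.Helper5.St.RData

/-!
# The relations (R1), (R2) of type `B₂` between the root elements of `Ω₅(F)` (helper5)
-/

set_option autoImplicit false

namespace Cfsg.Agent.Lib.Helper5.B2O5

open Matrix Cfsg.Lie Cfsg.Agent.Lib.Helper5.St
open Cfsg.Agent.H9.Orth (pol pol_comm Q_add act act_mul act_one act_inv_act act_act_inv act_add
  act_smul act_neg act_sub act_zero act_injective act_eq_zero_iff gl_ext ofLin act_ofLin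
  mem_isometryGroup_iff pol_act Q_act pol_act_inv)

/-- the table of the terms of the commutator formula -/
def ct : ℕ → ℕ → List (ℕ × ℤ × ℕ × ℕ)
  | 0, 5 => [(1, 1, 1, 1), (3, (-1), 1, 2)]
  | 0, 6 => [(2, (-1), 1, 1), (4, 1, 1, 2)]
  | 1, 2 => [(0, 2, 1, 1)]
  | 1, 4 => [(2, 1, 1, 1), (0, 1, 2, 1)]
  | 1, 5 => [(3, (-2), 1, 1)]
  | 1, 7 => [(5, (-1), 1, 1), (3, 1, 2, 1)]
  | 2, 1 => [(0, (-2), 1, 1)]
  | 2, 3 => [(1, 1, 1, 1), (0, (-1), 2, 1)]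
  | 2, 6 => [(4, (-2), 1, 1)]
  | 2, 7 => [(6, 1, 1, 1), (4, (-1), 2, 1)]
  | 3, 2 => [(1, (-1), 1, 1), (0, (-1), 1, 2)]
  | 3, 6 => [(5, 1, 1, 1), (7, 1, 1, 2)]
  | 4, 1 => [(2, (-1), 1, 1), (0, 1, 1, 2)]
  | 4, 5 => [(6, 1, 1, 1), (7, (-1), 1, 2)]
  | 5, 0 => [(1, (-1), 1, 1), (3, (-1), 2, 1)]
  | 5, 1 => [(3, 2, 1, 1)]
  | 5, 4 => [(6, (-1), 1, 1), (7, (-1), 2, 1)]
  | 5, 6 => [(7, 2, 1, 1)]
  | 6, 0 => [(2, 1, 1, 1), (4, 1, 2, 1)]
  | 6, 2 => [(4, 2, 1, 1)]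
  | 6, 3 => [(5, (-1), 1, 1), (7, 1, 2, 1)]
  | 6, 5 => [(7, (-2), 1, 1)]
  | 7, 1 => [(5, 1, 1, 1), (3, 1, 1, 2)]
  | 7, 2 => [(6, (-1), 1, 1), (4, (-1), 1, 2)]
  | _, _ => []

theorem commTerms_eq : ∀ r < 8, ∀ s < 8, chevB2.commTerms r s = ct r s := by
  intro r hr
  interval_cases r <;> decide

variable (F : Type*) [Field F]

/-- the relation (R1) -/
theorem X5_mul (r : ℕ) (t₁ t₂ : F) : X5 F r t₁ * X5 F r t₂ = X5 F r (t₁ + t₂) := by
  by_cases hr : r < 8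
  · apply gl_ext
    intro x
    rw [v5_eta x]
    interval_cases r <;> simp only [act_mul, act_X5_0, act_X5_1, act_X5_2, act_X5_3, act_X5_4, act_X5_5, act_X5_6, act_X5_7] <;> congr 1 <;> ring
  · rw [X5_out F r hr, X5_out F r hr, X5_out F r hr, one_mul]

theorem X5_zero (r : ℕ) : X5 F r 0 = 1 := by
  have h := X5_mul F r 0 0
  rw [add_zero] at h
  exact mul_eq_left.1 h

theorem X5_inv (r : ℕ) (t : F) : (X5 F r t)⁻¹ = X5 F r (-t) := by
  rw [inv_eq_iff_mul_eq_one, X5_mul, add_neg_cancel, X5_zero]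

set_option maxHeartbeats 4000000 in
/-- the relation (R2) -/
theorem X5_comm (r s : ℕ) (hr : r < 8) (hs : s < 8) (h1 : s ≠ r) (h2 : s ≠ chevB2.neg r)
    (t u : F) :
    (X5 F s u)⁻¹ * (X5 F r t)⁻¹ * X5 F s u * X5 F r t =
      wordG (X5 F) (chevB2.commWord F r s t u) := by
  unfold ChevalleyDatum.commWord
  rw [commTerms_eq r hr s hs, X5_inv, X5_inv]
  apply gl_ext
  intro x
  rw [v5_eta x]
  interval_cases r <;> interval_cases s <;>
    first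
    | exact absurd rfl h1
    | exact absurd (by decide) h2
    | (simp only [ct, List.map_cons, List.map_nil, wordG_cons, wordG_nil, act_mul, act_one,
        act_X5_0, act_X5_1, act_X5_2, act_X5_3, act_X5_4, act_X5_5, act_X5_6, act_X5_7]
       congr 1 <;> (push_cast; ring))

end Cfsg.Agent.Lib.Helper5.B2O5
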