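import Cfsg.Agent.Lib.Helper5.B2O5.Red

/-!
# `Ω₅(F)` is generated by the root elements, for every field with more than two elements (helper5)

The diagonal isometries normalise the group `E5` of the root elements and commute with each other; hence
the commutator subgroup of the isometry group lies in `E5`.  Conversely every root element is a
commutator with a diagonal isometry.
-/

set_option autoImplicit false

namespace Cfsg.Agent.Lib.Helper5.B2O5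

open Matrix
open scoped commutatorElement
open Cfsg.Agent.H9.Orth (pol pol_comm Q_add act act_mul act_one act_inv_act act_act_inv act_add
  act_smul act_neg act_sub act_zero act_injective act_eq_zero_iff gl_ext ofLin act_ofLin
  mem_isometryGroup_iff pol_act Q_act pol_act_inv comm_mem_of_gens)

variable (F : Type*) [Field F]

/-- conjugation of a root element by a diagonal isometry -/
theorem conj_diag (g : GL I5 F) (hg : g ∈ Cfsg.isometryGroup F (Q5 F)) (l : I5 → F)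
    (hl : ∀ k, act g (eb F k) = l k • eb F k) (r : ℕ) (hr : r < 8) (t : F) :
    g * X5 F r t * g⁻¹ = X5 F r (l (rA r) * l (rC r) * t) := by
  rw [X5_eq F r hr, X5_eq F r hr, conj_sg (hQ5 F) g hg, hl, act_smul, hl, sg_smul_left, smul_smul,
    smul_smul]
  have e : l (rA r) * (((rS r : ℤ) : F) * t) * l (rC r) =
      ((rS r : ℤ) : F) * (l (rA r) * l (rC r) * t) := by ring
  rw [e]

theorem conj_E5_diag (g : GL I5 F) (hg : g ∈ Cfsg.isometryGroup F (Q5 F)) (hd : IsDiag5 F g) :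
    ∀ n ∈ E5 F, g * n * g⁻¹ ∈ E5 F := by
  obtain ⟨l, hl⟩ := hd
  intro n hn
  unfold E5 at hn
  induction hn using Subgroup.closure_induction with
  | mem x hx =>
    obtain ⟨r, hr, t, rfl⟩ := hx
    rw [conj_diag F g hg l hl r hr t]
    exact X5_mem_E5 F _ _
  | one =>
    rw [mul_one, mul_inv_cancel]
    exact one_mem _
  | mul a b _ _ ha hb =>
    have e : g * (a * b) * g⁻¹ = (g * a * g⁻¹) * (g * b * g⁻¹) := by group
    rw [e]
    exact mul_mem ha hb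
  | inv a _ ha =>
    have e : g * a⁻¹ * g⁻¹ = (g * a * g⁻¹)⁻¹ := by group
    rw [e]
    exact inv_mem ha

/-- the group of the root elements is normal in the isometry group -/
theorem conj_E5_O (g : GL I5 F) (hg : g ∈ Cfsg.isometryGroup F (Q5 F)) :
    ∀ n ∈ E5 F, g * n * g⁻¹ ∈ E5 F := by
  intro n hn
  obtain ⟨h, hh, hd⟩ := reduce5 F g hg
  have e : g * n * g⁻¹ = h⁻¹ * ((h * g) * n * (h * g)⁻¹) * h := by group
  rw [e]
  exact mul_mem (mul_mem (inv_mem hh) (conj_E5_diag F _ (mul_mem (E5_le F hh) hg) hd n hn)) hh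

theorem comm_diag (s t : GL I5 F) (hs : IsDiag5 F s) (ht : IsDiag5 F t) : ⁅s, t⁆ = 1 := by
  rw [commutatorElement_eq_one_iff_commute]
  obtain ⟨l, hl⟩ := hs
  obtain ⟨m, hm⟩ := ht
  show s * t = t * s
  apply gl_ext_basis F
  intro k
  rw [act_mul, act_mul, hm, hl, act_smul, act_smul, hl, hm, smul_smul, smul_smul, mul_comm (m k)]

/-- commutators of isometries lie in the group of the root elements -/
theorem comm_mem_E5 : ∀ a ∈ Cfsg.isometryGroup F (Q5 F), ∀ b ∈ Cfsg.isometryGroup F (Q5 F),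
    ⁅a, b⁆ ∈ E5 F := by
  apply comm_mem_of_gens (E5 F) (Cfsg.isometryGroup F (Q5 F)) (conj_E5_O F)
    ((E5 F : Set (GL I5 F)) ∪ {g | g ∈ Cfsg.isometryGroup F (Q5 F) ∧ IsDiag5 F g})
  · rintro g (hg | hg)
    · exact E5_le F hg
    · exact hg.1
  · intro g hg
    obtain ⟨h, hh, hd⟩ := reduce5 F g hg
    have e : g = h⁻¹ * (h * g) := by group
    rw [e]
    exact Subgroup.mul_mem _
      (Subgroup.inv_mem _ (Subgroup.subset_closure (Or.inl hh)))
      (Subgroup.subset_closure (Or.inr ⟨mul_mem (E5_le F hh) hg, hd⟩))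
  · rintro s (hs | hs) t (ht | ht)
    · exact (E5 F).mul_mem ((E5 F).mul_mem ((E5 F).mul_mem hs ht) ((E5 F).inv_mem hs))
        ((E5 F).inv_mem ht)
    · have e : ⁅s, t⁆ = s * (t * s⁻¹ * t⁻¹) := by
        rw [commutatorElement_def]
        group
      rw [e]
      exact (E5 F).mul_mem hs (conj_E5_diag F t ht.1 ht.2 _ ((E5 F).inv_mem hs))
    · have e : ⁅s, t⁆ = (s * t * s⁻¹) * t⁻¹ := by
        rw [commutatorElement_def]
      rw [e]
      exact (E5 F).mul_mem (conj_E5_diag F s hs.1 hs.2 _ ht) ((E5 F).inv_mem ht)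
    · rw [comm_diag F s t hs.2 ht.2]
      exact one_mem _

/-! ### the diagonal isometries -/

/-- the diagonal entries -/
def dv5 (β₁ β₂ : Fˣ) : I5 → F := v5 1 (β₁ : F) (β₂ : F) ((β₁⁻¹ : Fˣ) : F) ((β₂⁻¹ : Fˣ) : F)

theorem dv5_mul_inv (β₁ β₂ : Fˣ) : ∀ k, dv5 F β₁ β₂ k * dv5 F β₁⁻¹ β₂⁻¹ k = 1 := by
  apply I5_cases
  · show (1 : F) * 1 = 1
    ring
  · show (β₁ : F) * ((β₁⁻¹ : Fˣ) : F) = 1
    rw [← Units.val_mul, mul_inv_cancel, Units.val_one]
  · show (β₂ : F) * ((β₂⁻¹ : Fˣ) : F) = 1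
    rw [← Units.val_mul, mul_inv_cancel, Units.val_one]
  · show ((β₁⁻¹ : Fˣ) : F) * ((β₁⁻¹⁻¹ : Fˣ) : F) = 1
    rw [← Units.val_mul, mul_inv_cancel, Units.val_one]
  · show ((β₂⁻¹ : Fˣ) : F) * ((β₂⁻¹⁻¹ : Fˣ) : F) = 1
    rw [← Units.val_mul, mul_inv_cancel, Units.val_one]

/-- the diagonal isometry -/
def Dg5 (β₁ β₂ : Fˣ) : GL I5 F :=
  ⟨Matrix.diagonal (dv5 F β₁ β₂), Matrix.diagonal (dv5 F β₁⁻¹ β₂⁻¹), by
    rw [Matrix.diagonal_mul_diagonal, ← Matrix.diagonal_one]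
    congr 1
    funext k
    exact dv5_mul_inv F β₁ β₂ k, by
    rw [Matrix.diagonal_mul_diagonal, ← Matrix.diagonal_one]
    congr 1
    funext k
    rw [mul_comm]
    exact dv5_mul_inv F β₁ β₂ k⟩

theorem act_Dg5 (β₁ β₂ : Fˣ) (a b c d e : F) :
    act (Dg5 F β₁ β₂) (v5 a b c d e) =
      v5 a ((β₁ : F) * b) ((β₂ : F) * c) (((β₁⁻¹ : Fˣ) : F) * d) (((β₂⁻¹ : Fˣ) : F) * e) := by
  have h : act (Dg5 F β₁ β₂) (v5 a b c d e) = fun k => dv5 F β₁ β₂ k * v5 a b c d e k := by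
    funext k
    show (Matrix.diagonal (dv5 F β₁ β₂) *ᵥ v5 a b c d e) k = _
    rw [Matrix.mulVec_diagonal]
  rw [h]
  funext k
  revert k
  apply I5_cases
  · show (1 : F) * a = a
    ring
  · rfl
  · rfl
  · rfl
  · rfl

theorem Dg5_mem (β₁ β₂ : Fˣ) : Dg5 F β₁ β₂ ∈ Cfsg.isometryGroup F (Q5 F) := by
  rw [mem_isometryGroup_iff]
  intro x
  rw [v5_eta x, act_Dg5, Q5_v5, Q5_v5]
  have h1 : (β₁ : F) * ((β₁⁻¹ : Fˣ) : F) = 1 := by
    rw [← Units.val_mul, mul_inv_cancel, Units.val_one]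
  have h2 : (β₂ : F) * ((β₂⁻¹ : Fˣ) : F) = 1 := by
    rw [← Units.val_mul, mul_inv_cancel, Units.val_one]
  linear_combination (x p1 * x q1) * h1 + (x p2 * x q2) * h2

theorem Dg5_diag (β₁ β₂ : Fˣ) : ∀ k, act (Dg5 F β₁ β₂) (eb F k) = dv5 F β₁ β₂ k • eb F k := by
  apply I5_cases
  · rw [eb_io, act_Dg5, v5_smul]
    congr 1 <;> simp [dv5, v5_io]
  · rw [eb_p1, act_Dg5, v5_smul]
    congr 1 <;> simp [dv5, v5_p1]
  · rw [eb_p2, act_Dg5, v5_smul]
    congr 1 <;> simp [dv5, v5_p2]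
  · rw [eb_q1, act_Dg5, v5_smul]
    congr 1 <;> simp [dv5, v5_q1]
  · rw [eb_q2, act_Dg5, v5_smul]
    congr 1 <;> simp [dv5, v5_q2]

/-- every character value is attained on every root -/
theorem exists_chi (c : Fˣ) (r : ℕ) (hr : r < 8) :
    ∃ β₁ β₂ : Fˣ, dv5 F β₁ β₂ (rA r) * dv5 F β₁ β₂ (rC r) = (c : F) := by
  interval_cases r
  · refine ⟨c⁻¹, 1, ?_⟩
    show (((c⁻¹)⁻¹ : Fˣ) : F) * (((1 : Fˣ)⁻¹ : Fˣ) : F) = c
    simp
  · refine ⟨c⁻¹, 1, ?_⟩
    show (((c⁻¹)⁻¹ : Fˣ) : F) * (1 : F) = c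
    simp
  · refine ⟨1, c⁻¹, ?_⟩
    show (((c⁻¹)⁻¹ : Fˣ) : F) * (1 : F) = c
    simp
  · refine ⟨1, c, ?_⟩
    show (((1 : Fˣ)⁻¹ : Fˣ) : F) * (c : F) = c
    simp
  · refine ⟨c, 1, ?_⟩
    show (c : F) * (((1 : Fˣ)⁻¹ : Fˣ) : F) = c
    simp
  · refine ⟨1, c, ?_⟩
    show (c : F) * (1 : F) = c
    simp
  · refine ⟨c, 1, ?_⟩
    show (c : F) * (1 : F) = c
    simp
  · refine ⟨c, 1, ?_⟩
    show (c : F) * ((1 : Fˣ) : F) = c
    simp

/-- the root elements are commutators -/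
theorem X5_mem_comm (hF : ∃ a : F, a ≠ 0 ∧ a ≠ 1) (r : ℕ) (hr : r < 8) (t : F) :
    X5 F r t ∈ ⁅Cfsg.isometryGroup F (Q5 F), Cfsg.isometryGroup F (Q5 F)⁆ := by
  obtain ⟨c, hc0, hc1⟩ := hF
  obtain ⟨β₁, β₂, hβ⟩ := exists_chi F (Units.mk0 c hc0) r hr
  rw [Units.val_mk0] at hβ
  have hc1' : c - 1 ≠ 0 := sub_ne_zero.2 hc1
  have e : X5 F r t = ⁅Dg5 F β₁ β₂, X5 F r (t / (c - 1))⁆ := by
    rw [commutatorElement_def, conj_diag F _ (Dg5_mem F β₁ β₂) _ (Dg5_diag F β₁ β₂) r hr, hβ,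
      X5_inv, X5_mul]
    congr 1
    field_simp
    ring
  rw [e]
  exact Subgroup.commutator_mem_commutator (Dg5_mem F β₁ β₂) (X5_mem F r _)

theorem comm_eq_E5 (hF : ∃ a : F, a ≠ 0 ∧ a ≠ 1) :
    ⁅Cfsg.isometryGroup F (Q5 F), Cfsg.isometryGroup F (Q5 F)⁆ = E5 F := by
  apply le_antisymm
  · rw [Subgroup.commutator_le]
    exact comm_mem_E5 F
  · unfold E5
    rw [Subgroup.closure_le]
    rintro g ⟨r, hr, t, rfl⟩
    exact X5_mem_comm F hF r hr t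

/-- **`Ω₅(F)` is the group generated by the root elements** -/
theorem omega_eq (hF : ∃ a : F, a ≠ 0 ∧ a ≠ 1) :
    Cfsg.Omega F (Q5 F) = (E5 F).subgroupOf (Cfsg.isometryGroup F (Q5 F)) := by
  apply Subgroup.map_injective (Cfsg.isometryGroup F (Q5 F)).subtype_injective
  rw [Subgroup.subgroupOf_map_subtype, inf_eq_left.2 (E5_le F)]
  show (commutator ↥(Cfsg.isometryGroup F (Q5 F))).map _ = _
  rw [Subgroup.map_subtype_commutator, comm_eq_E5 F hF]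

end Cfsg.Agent.Lib.Helper5.B2O5
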