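import Cfsg.Agent.Lib.Helper5.B2O5.Rel
import Cfsg.Agent.H9.OrthG

/-!
# Reduction of an isometry of `x₀² + x₁y₁ + x₂y₂` by root elements (helper5)

Every isometry is, modulo the group `E5` generated by the root elements, diagonal.  Valid over every
field.
-/

set_option autoImplicit false

namespace Cfsg.Agent.Lib.Helper5.B2O5

open Matrix
open Cfsg.Agent.H9.Orth (pol pol_comm Q_add act act_mul act_one act_inv_act act_act_inv act_add
  act_smul act_neg act_sub act_zero act_injective act_eq_zero_iff gl_ext ofLin act_ofLin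
  mem_isometryGroup_iff pol_act Q_act pol_act_inv)

variable (F : Type*) [Field F]

/-- the group generated by the root elements -/
def E5 : Subgroup (GL I5 F) := Subgroup.closure {g | ∃ r, r < 8 ∧ ∃ t : F, g = X5 F r t}

theorem X5_mem_E5 (r : ℕ) (t : F) : X5 F r t ∈ E5 F := by
  by_cases hr : r < 8
  · exact Subgroup.subset_closure ⟨r, hr, t, rfl⟩
  · rw [X5_out F r hr]
    exact one_mem _

theorem E5_le : E5 F ≤ Cfsg.isometryGroup F (Q5 F) := by
  unfold E5
  rw [Subgroup.closure_le]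
  rintro g ⟨r, -, t, rfl⟩
  exact X5_mem F r t

/-! ### transitivity on the singular vectors -/

theorem trans_via (g : GL I5 F) (hg : g ∈ E5 F) (v u : I5 → F)
    (H : ∃ h ∈ E5 F, act h (act g v) = u) : ∃ h ∈ E5 F, act h v = u := by
  obtain ⟨h, hh, hact⟩ := H
  exact ⟨h * g, (E5 F).mul_mem hh hg, by rw [act_mul, hact]⟩

theorem trans_b1 (a c d e : F) (hv : Q5 F (v5 a 1 c d e) = 0) :
    ∃ h ∈ E5 F, act h (v5 a 1 c d e) = eb F p1 := by
  refine ⟨X5 F 1 (-a) * X5 F 3 (-c) * X5 F 0 (-e),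
    (E5 F).mul_mem ((E5 F).mul_mem (X5_mem_E5 F _ _) (X5_mem_E5 F _ _)) (X5_mem_E5 F _ _), ?_⟩
  rw [Q5_v5] at hv
  rw [act_mul, act_mul, act_X5_0, act_X5_3, act_X5_1, eb_p1]
  congr 1 <;> first | ring1 | linear_combination hv

theorem trans_c (a b c d e : F) (hc : c ≠ 0) (hv : Q5 F (v5 a b c d e) = 0) :
    ∃ h ∈ E5 F, act h (v5 a b c d e) = eb F p1 := by
  apply trans_via F (X5 F 4 ((1 - b) / c)) (X5_mem_E5 F _ _)
  have h1 : act (X5 F 4 ((1 - b) / c)) (v5 a b c d e) = v5 a 1 c d (e - (1 - b) / c * d) := by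
    rw [act_X5_4]
    congr 1
    rw [div_mul_cancel₀ _ hc]
    ring
  rw [h1]
  apply trans_b1
  rw [← h1, Q_act _ (X5_mem F 4 _), hv]

theorem trans_e (a b c d e : F) (he : e ≠ 0) (hv : Q5 F (v5 a b c d e) = 0) :
    ∃ h ∈ E5 F, act h (v5 a b c d e) = eb F p1 := by
  apply trans_via F (X5 F 7 ((1 - b) / e)) (X5_mem_E5 F _ _)
  have h1 : act (X5 F 7 ((1 - b) / e)) (v5 a b c d e) = v5 a 1 (c - (1 - b) / e * d) d e := by
    rw [act_X5_7]
    congr 1
    rw [div_mul_cancel₀ _ he]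
    ring
  rw [h1]
  apply trans_b1
  rw [← h1, Q_act _ (X5_mem F 7 _), hv]

/-- the group of the root elements is transitive on the non-zero singular vectors -/
theorem trans_p1 (v : I5 → F) (hv : Q5 F v = 0) (hv0 : v ≠ 0) :
    ∃ h ∈ E5 F, act h v = eb F p1 := by
  obtain ⟨a, b, c, d, e, rfl⟩ : ∃ a b c d e, v = v5 a b c d e := ⟨_, _, _, _, _, v5_eta v⟩
  by_cases hc : c = 0
  · by_cases he : e = 0
    · subst hc he
      by_cases hb : b = 0
      · subst hb
        have ha : a = 0 := by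
          rw [Q5_v5] at hv
          have : a ^ 2 = 0 := by linear_combination hv
          exact pow_eq_zero_iff (two_ne_zero) |>.1 this
        subst ha
        have hd : d ≠ 0 := by
          intro hd
          apply hv0
          rw [hd, v5_zero]
        apply trans_via F (X5 F 7 (-1)) (X5_mem_E5 F _ _)
        rw [act_X5_7]
        apply trans_c F _ _ _ _ _ _ (by
          rw [← act_X5_7, Q_act _ (X5_mem F 7 _), hv])
        intro h
        apply hd
        linear_combination h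
      · apply trans_via F (X5 F 3 1) (X5_mem_E5 F _ _)
        rw [act_X5_3]
        apply trans_c F _ _ _ _ _ _ (by
          rw [← act_X5_3, Q_act _ (X5_mem F 3 _), hv])
        intro h
        apply hb
        linear_combination h
    · exact trans_e F a b c d e he hv
  · exact trans_c F a b c d e hc hv

/-! ### the stabiliser steps -/

theorem fix_q1 (a b c e : F) (hw : Q5 F (v5 a b c 1 e) = 0) :
    ∃ h ∈ E5 F, act h (eb F p1) = eb F p1 ∧ act h (v5 a b c 1 e) = eb F q1 := by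
  refine ⟨X5 F 6 a * X5 F 7 c * X5 F 4 e,
    (E5 F).mul_mem ((E5 F).mul_mem (X5_mem_E5 F _ _) (X5_mem_E5 F _ _)) (X5_mem_E5 F _ _), ?_, ?_⟩
  · rw [eb_p1, act_mul, act_mul, act_X5_4, act_X5_7, act_X5_6]
    congr 1 <;> ring
  · rw [Q5_v5] at hw
    rw [act_mul, act_mul, act_X5_4, act_X5_7, act_X5_6, eb_q1]
    congr 1 <;> first | ring1 | linear_combination hw

/-- the property of fixing the first hyperbolic pair -/
def Fix1 (h : GL I5 F) : Prop := act h (eb F p1) = eb F p1 ∧ act h (eb F q1) = eb F q1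

theorem Fix1_mul (g h : GL I5 F) (hg : Fix1 F g) (hh : Fix1 F h) : Fix1 F (g * h) :=
  ⟨by rw [act_mul, hh.1, hg.1], by rw [act_mul, hh.2, hg.2]⟩

theorem Fix1_X5_2 (t : F) : Fix1 F (X5 F 2 t) := by
  constructor
  · rw [eb_p1, act_X5_2]
    congr 1 <;> ring
  · rw [eb_q1, act_X5_2]
    congr 1 <;> ring

theorem Fix1_X5_5 (t : F) : Fix1 F (X5 F 5 t) := by
  constructor
  · rw [eb_p1, act_X5_5]
    congr 1 <;> ring
  · rw [eb_q1, act_X5_5]
    congr 1 <;> ring

theorem fix_p2_c (a c e : F) (hc : c ≠ 0) (hv : Q5 F (v5 a 0 c 0 e) = 0) :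
    ∃ h ∈ E5 F, Fix1 F h ∧ act h (v5 a 0 c 0 e) = v5 0 0 c 0 0 := by
  obtain ⟨t, ht⟩ : ∃ t : F, t * c = -a := ⟨-a / c, div_mul_cancel₀ _ hc⟩
  refine ⟨X5 F 2 t, X5_mem_E5 F _ _, Fix1_X5_2 F _, ?_⟩
  rw [Q5_v5] at hv
  rw [act_X5_2]
  congr 1
  · linear_combination ht
  · apply mul_left_cancel₀ hc
    linear_combination hv - (t * c + a) * ht

theorem fix_p2 (a c e : F) (hv : Q5 F (v5 a 0 c 0 e) = 0) (hv0 : v5 a 0 c 0 e ≠ 0) :
    ∃ h ∈ E5 F, Fix1 F h ∧ ∃ β : F, β ≠ 0 ∧ act h (v5 a 0 c 0 e) = v5 0 0 β 0 0 := by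
  by_cases hc : c = 0
  · subst hc
    have ha : a = 0 := by
      rw [Q5_v5] at hv
      have : a ^ 2 = 0 := by linear_combination hv
      exact pow_eq_zero_iff (two_ne_zero) |>.1 this
    subst ha
    have he : e ≠ 0 := by
      intro he
      apply hv0
      rw [he, v5_zero]
    have h1 : act (X5 F 5 1) (v5 0 0 0 0 e) = v5 (-e) 0 (-e) 0 e := by
      rw [act_X5_5]
      congr 1 <;> ring
    have hv' : Q5 F (v5 (-e) 0 (-e) 0 e) = 0 := by
      rw [← h1, Q_act _ (X5_mem F 5 _), hv]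
    obtain ⟨h, hh, hf, hact⟩ := fix_p2_c F (-e) (-e) e (neg_ne_zero.2 he) hv'
    refine ⟨h * X5 F 5 1, (E5 F).mul_mem hh (X5_mem_E5 F _ _), Fix1_mul F _ _ hf (Fix1_X5_5 F 1),
      -e, neg_ne_zero.2 he, ?_⟩
    rw [act_mul, h1, hact]
  · obtain ⟨h, hh, hf, hact⟩ := fix_p2_c F a c e hc hv
    exact ⟨h, hh, hf, c, hc, hact⟩

theorem fix_q2 (β a c e : F) (hβe : β * e = 1) (hw : Q5 F (v5 a 0 c 0 e) = 0) :
    ∃ h ∈ E5 F, Fix1 F h ∧ (∀ β' : F, act h (v5 0 0 β' 0 0) = v5 0 0 β' 0 0) ∧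
      act h (v5 a 0 c 0 e) = v5 0 0 0 0 e := by
  refine ⟨X5 F 5 (a * β), X5_mem_E5 F _ _, Fix1_X5_5 F _, ?_, ?_⟩
  · intro β'
    rw [act_X5_5]
    congr 1 <;> ring
  · rw [Q5_v5] at hw
    rw [act_X5_5]
    congr 1
    · linear_combination (-a) * hβe
    · linear_combination β * hw - (c + a ^ 2 * β) * hβe

end Cfsg.Agent.Lib.Helper5.B2O5
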